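import Mathlib.RingTheory.Polynomial.UniversalFactorizationRing
import Mathlib.RingTheory.Ideal.IdempotentFG
import Mathlib.RingTheory.Unramified.Basic

/-! Shrinking an étale algebra with a point modulo `I` to an étale neighbourhood, and lifting
coprime monic factorisations along étale neighbourhoods. -/

set_option autoImplicit false
universe u

open Polynomial

namespace Groth.Agent.EtLiftLib

variable {A : Type u} [CommRing A] (I : Ideal A)

/-- An étale algebra with a point over `A/I` can be shrunk so that it becomes `A/I` modulo `I`. -/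
theorem exists_localization (B : Type u) [CommRing B] [Algebra A B] [Algebra.Etale A B]
    (π : B →ₐ[A] A ⧸ I) :
    ∃ (A' : Type u) (_ : CommRing A') (_ : Algebra A A') (_ : Algebra.Etale A A') (φ : B →ₐ[A] A'),
      Function.Bijective (Ideal.quotientMap (I.map (algebraMap A A')) (algebraMap A A') Ideal.le_comap_map) ∧
      ∀ b, Ideal.Quotient.mk (I.map (algebraMap A A')) (φ b) =
        Ideal.quotientMap (I.map (algebraMap A A')) (algebraMap A A') Ideal.le_comap_map (π b) := by
  classical
  set IB := I.map (algebraMap A B) with hIB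
  let K := RingHom.ker π
  have hπI : IB ≤ K := Ideal.map_le_iff_le_comap.mpr fun a ha => by
    show π (algebraMap A B a) = 0
    rw [AlgHom.commutes, Ideal.Quotient.algebraMap_eq, Ideal.Quotient.eq_zero_iff_mem]; exact ha
  let J := K * K ⊔ IB
  have hJK : J ≤ K := sup_le Ideal.mul_le_left hπI
  have hIJ : I ≤ J.comap (algebraMap A B) := fun a ha => Ideal.mem_sup_right (Ideal.mem_map_of_mem _ ha)
  let g₁ : B →ₐ[A] B ⧸ J := Ideal.Quotient.mkₐ A J
  let g₂ : B →ₐ[A] B ⧸ J :=
    (Ideal.Quotient.liftₐ I (Algebra.ofId A (B ⧸ J)) (fun a ha => Ideal.Quotient.eq_zero_iff_mem.mpr (hIJ ha))).comp π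
  have hKsq : K ≤ J := by
    let N : Ideal (B ⧸ J) := K.map (Ideal.Quotient.mk J)
    have hN : IsNilpotent N := ⟨2, by
      rw [Ideal.zero_eq_bot, pow_two, ← Ideal.map_mul, Ideal.map_eq_bot_iff_le_ker, Ideal.mk_ker]
      exact le_sup_left⟩
    have hg : g₁ = g₂ := Algebra.FormallyUnramified.ext N hN fun x => by
      obtain ⟨a, ha⟩ := Ideal.Quotient.mk_surjective (π x)
      rw [Ideal.Quotient.eq]
      have : g₂ x = Ideal.Quotient.mk J (algebraMap A B a) := by
        simp only [g₂, AlgHom.comp_apply, ← ha]; rfl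
      rw [this, show g₁ x = Ideal.Quotient.mk J x from rfl, ← map_sub]
      exact Ideal.mem_map_of_mem _ (show π (x - algebraMap A B a) = 0 by
        rw [map_sub, AlgHom.commutes, Ideal.Quotient.algebraMap_eq, ha, sub_self])
    intro x hx
    rw [← Ideal.Quotient.eq_zero_iff_mem, show Ideal.Quotient.mk J x = g₁ x from rfl, hg]
    simp only [g₂, AlgHom.comp_apply, show π x = 0 from hx, map_zero]
  -- finite generation of `K` modulo `IB`
  obtain ⟨s, hs⟩ := (Algebra.FiniteType.out : (⊤ : Subalgebra A B).FG)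
  choose av hav using fun x : B => Ideal.Quotient.mk_surjective (I := I) (π x)
  let G : Finset B := s.image fun x => x - algebraMap A B (av x)
  have hKG : K ≤ Ideal.span (G : Set B) ⊔ IB := by
    have hall : ∀ b : B, ∃ a : A, b - algebraMap A B a ∈ Ideal.span (G : Set B) := by
      intro b
      have hb : b ∈ Algebra.adjoin A (s : Set B) := hs ▸ Algebra.mem_top
      induction hb using Algebra.adjoin_induction with
      | mem x hx => exact ⟨av x, Ideal.subset_span (Finset.mem_image_of_mem _ hx)⟩
      | algebraMap r => exact ⟨r, by simp⟩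
      | add x y _ _ hx hy =>
        obtain ⟨a, ha⟩ := hx; obtain ⟨b, hb⟩ := hy
        exact ⟨a + b, by rw [map_add, add_sub_add_comm]; exact add_mem ha hb⟩
      | mul x y _ _ hx hy =>
        obtain ⟨a, ha⟩ := hx; obtain ⟨b, hb⟩ := hy
        exact ⟨a * b, by
          rw [map_mul, show x * y - algebraMap A B a * algebraMap A B b =
            x * (y - algebraMap A B b) + algebraMap A B b * (x - algebraMap A B a) by ring]
          exact add_mem (Ideal.mul_mem_left _ _ hb) (Ideal.mul_mem_left _ _ ha)⟩
    intro x hx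
    obtain ⟨a, ha⟩ := hall x
    have hG : Ideal.span (G : Set B) ≤ K := Ideal.span_le.mpr fun y hy => by
      obtain ⟨z, -, rfl⟩ := Finset.mem_image.mp hy
      show π (z - algebraMap A B (av z)) = 0
      rw [map_sub, AlgHom.commutes, Ideal.Quotient.algebraMap_eq, hav, sub_self]
    have haI : a ∈ I := by
      have := hG ha
      rw [RingHom.mem_ker, map_sub, show π x = 0 from hx, zero_sub, neg_eq_zero, AlgHom.commutes,
        Ideal.Quotient.algebraMap_eq, Ideal.Quotient.eq_zero_iff_mem] at this
      exact this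
    rw [show x = (x - algebraMap A B a) + algebraMap A B a by ring]
    exact add_mem (Ideal.mem_sup_left ha) (Ideal.mem_sup_right (Ideal.mem_map_of_mem _ haI))
  let Kb : Ideal (B ⧸ IB) := K.map (Ideal.Quotient.mk IB)
  have hfg : Kb.FG := by
    refine ⟨G.image (Ideal.Quotient.mk IB), le_antisymm ?_ ?_⟩
    · rw [Finset.coe_image, ← Ideal.map_span]
      refine Ideal.map_mono (Ideal.span_le.mpr fun y hy => ?_)
      obtain ⟨z, -, rfl⟩ := Finset.mem_image.mp hy
      show π (z - algebraMap A B (av z)) = 0
      rw [map_sub, AlgHom.commutes, Ideal.Quotient.algebraMap_eq, hav, sub_self]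
    · rw [Finset.coe_image, ← Ideal.map_span]
      refine (Ideal.map_mono hKG).trans ?_
      rw [Ideal.map_sup, Ideal.map_quotient_self, sup_bot_eq]
  have hidem : IsIdempotentElem Kb := by
    refine le_antisymm Ideal.mul_le_left ?_
    refine (Ideal.map_mono hKsq).trans ?_
    rw [Ideal.map_sup, Ideal.map_quotient_self, sup_bot_eq, Ideal.map_mul]
  obtain ⟨e, he, hKe⟩ := (Ideal.isIdempotentElem_iff_of_fg Kb hfg).mp hidem
  obtain ⟨e₀, he₀⟩ := Ideal.Quotient.mk_surjective e
  let c := 1 - e₀
  have he₀K : e₀ ∈ K := by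
    have : e ∈ Kb := by rw [hKe]; exact Ideal.mem_span_singleton_self e
    rw [← he₀] at this
    obtain ⟨y, hy, hye⟩ := (Ideal.mem_map_iff_of_surjective _ Ideal.Quotient.mk_surjective).mp this
    rw [show e₀ = y + (e₀ - y) by ring]
    exact add_mem hy (hπI (Ideal.Quotient.eq.mp hye.symm))
  have hπc : π c = 1 := by simp [c, show π e₀ = 0 from he₀K]
  have hcK : ∀ x ∈ K, c * x ∈ IB := by
    intro x hx
    have : Ideal.Quotient.mk IB x ∈ Kb := Ideal.mem_map_of_mem _ hx
    rw [hKe] at this
    obtain ⟨r, hr⟩ := Ideal.mem_span_singleton'.mp this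
    rw [← Ideal.Quotient.eq_zero_iff_mem, map_mul, ← hr]
    simp only [c, map_sub, map_one, he₀]
    linear_combination -r * he.eq
  clear_value c
  let A' := Localization.Away c
  let φ : B →ₐ[A] A' := IsScalarTower.toAlgHom A B A'
  let ρ : A' →ₐ[A] A ⧸ I := IsLocalization.Away.liftAlgHom (f := π) c (by rw [hπc]; exact isUnit_one)
  have hρφ : ∀ b, ρ (algebraMap B A' b) = π b := fun b => by simp only [ρ, IsLocalization.Away.coe_liftAlgHom, IsLocalization.Away.lift_eq]; rfl
  refine ⟨A', inferInstance, inferInstance, inferInstance, φ, ⟨?_, ?_⟩, fun b => ?_⟩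
  all_goals set IA := I.map (algebraMap A A') with hIA
  · rw [injective_iff_map_eq_zero]
    intro x hx
    obtain ⟨a, rfl⟩ := Ideal.Quotient.mk_surjective x
    rw [Ideal.quotientMap_mk, Ideal.Quotient.eq_zero_iff_mem] at hx
    have : IA ≤ RingHom.ker ρ := Ideal.map_le_iff_le_comap.mpr fun a ha => by
      show ρ (algebraMap A A' a) = 0
      rw [AlgHom.commutes, Ideal.Quotient.algebraMap_eq, Ideal.Quotient.eq_zero_iff_mem]; exact ha
    have h2 : ρ (algebraMap A A' a) = 0 := this hx
    rwa [AlgHom.commutes, Ideal.Quotient.algebraMap_eq] at h2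
  · intro x
    obtain ⟨y, rfl⟩ := Ideal.Quotient.mk_surjective x
    obtain ⟨a, ha⟩ := Ideal.Quotient.mk_surjective (ρ y)
    refine ⟨Ideal.Quotient.mk I a, ?_⟩
    rw [Ideal.quotientMap_mk, Ideal.Quotient.eq]
    obtain ⟨⟨b, ⟨d, n, rfl⟩⟩, hb⟩ := IsLocalization.surj (Submonoid.powers c) y
    dsimp only at hb
    have hbK : b - algebraMap A B a * c ^ n ∈ K := by
      show π _ = 0
      have h := congrArg ρ hb
      rw [map_mul, hρφ, hρφ, map_pow, hπc, one_pow, mul_one] at h
      rw [map_sub, map_mul, map_pow, hπc, one_pow, mul_one, AlgHom.commutes, Ideal.Quotient.algebraMap_eq, ha, ← h, sub_self]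
    have h1 : algebraMap B A' (c * (b - algebraMap A B a * c ^ n)) ∈ IA := by
      have := Ideal.mem_map_of_mem (algebraMap B A') (hcK _ hbK)
      rwa [hIB, Ideal.map_map, ← IsScalarTower.algebraMap_eq] at this
    rw [map_mul, map_sub, map_mul, ← hb, ← IsScalarTower.algebraMap_apply A B A', ← sub_mul, ← mul_assoc,
      mul_right_comm] at h1
    have hu : IsUnit (algebraMap B A' c * algebraMap B A' (c ^ n)) :=
      (IsLocalization.Away.algebraMap_isUnit c).mul (IsLocalization.map_units A' (⟨c ^ n, n, rfl⟩ : Submonoid.powers c))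
    rw [← neg_mem_iff, neg_sub]
    exact (Ideal.unit_mul_mem_iff_mem _ hu).mp h1
  · obtain ⟨a, ha⟩ := Ideal.Quotient.mk_surjective (π b)
    rw [← ha, Ideal.quotientMap_mk, Ideal.Quotient.eq]
    have hbK : b - algebraMap A B a ∈ K := by
      show π _ = 0
      rw [map_sub, AlgHom.commutes, Ideal.Quotient.algebraMap_eq, ha, sub_self]
    have h1 : algebraMap B A' (c * (b - algebraMap A B a)) ∈ IA := by
      have := Ideal.mem_map_of_mem (algebraMap B A') (hcK _ hbK)
      rwa [hIB, Ideal.map_map, ← IsScalarTower.algebraMap_eq] at this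
    rw [map_mul, map_sub, ← IsScalarTower.algebraMap_apply A B A'] at h1
    exact (Ideal.unit_mul_mem_iff_mem _ (IsLocalization.Away.algebraMap_isUnit c)).mp h1

/-- Lifting a coprime factorisation in monic factors, possibly inverting a prescribed element
that is a unit modulo `I`. -/
theorem exists_lift_monic (f : A[X]) (hf : f.Monic) (g h : (A ⧸ I)[X]) (hg : g.Monic) (hh : h.Monic)
    (hcop : IsCoprime g h) (hfgh : f.map (Ideal.Quotient.mk I) = g * h) (a : A)
    (ha : IsUnit (Ideal.Quotient.mk I a)) :
    ∃ (A' : Type u) (_ : CommRing A') (_ : Algebra A A') (_ : Algebra.Etale A A'),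
      IsUnit (algebraMap A A' a) ∧
      Function.Bijective (Ideal.quotientMap (I.map (algebraMap A A')) (algebraMap A A') Ideal.le_comap_map) ∧
      ∃ g' h' : A'[X], g'.Monic ∧ h'.Monic ∧ f.map (algebraMap A A') = g' * h' ∧
        g'.map (Ideal.Quotient.mk (I.map (algebraMap A A'))) =
          g.map (Ideal.quotientMap (I.map (algebraMap A A')) (algebraMap A A') Ideal.le_comap_map) ∧
        h'.map (Ideal.Quotient.mk (I.map (algebraMap A A'))) =
          h.map (Ideal.quotientMap (I.map (algebraMap A A')) (algebraMap A A') Ideal.le_comap_map) := by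
  rcases subsingleton_or_nontrivial (A ⧸ I) with hs | hs
  · haveI : Subsingleton (Localization.Away (0 : A)) := IsLocalization.subsingleton (M := Submonoid.powers (0 : A)) ⟨1, pow_one 0⟩
    refine ⟨Localization.Away (0 : A), inferInstance, inferInstance, inferInstance, isUnit_of_subsingleton _, ?_, 1, 1, monic_one, monic_one,
      Subsingleton.elim _ _, ?_, ?_⟩
    · haveI : Subsingleton (Localization.Away (0 : A) ⧸ I.map (algebraMap A (Localization.Away (0 : A)))) :=
        Ideal.Quotient.mk_surjective.subsingleton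
      exact ⟨fun x y _ => Subsingleton.elim x y, fun y => ⟨0, Subsingleton.elim _ _⟩⟩
    all_goals
      haveI : Subsingleton (Localization.Away (0 : A) ⧸ I.map (algebraMap A (Localization.Away (0 : A)))) :=
        Ideal.Quotient.mk_surjective.subsingleton
      exact Subsingleton.elim _ _
  set m := g.natDegree with hm
  set k := h.natDegree with hk
  have hn : f.natDegree = m + k := by
    rw [← hf.natDegree_map (Ideal.Quotient.mk I), hfgh, hg.natDegree_mul hh]
  let R' := UniversalCoprimeFactorizationRing m k hn (MonicDegreeEq.mk f hf rfl)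
  let π : R' →ₐ[A] A ⧸ I := (UniversalCoprimeFactorizationRing.homEquiv (A ⧸ I) m k hn (MonicDegreeEq.mk f hf rfl)).symm
    ⟨(MonicDegreeEq.mk g hg rfl, MonicDegreeEq.mk h hh rfl), hfgh.symm, hcop⟩
  let B := Localization.Away (algebraMap A R' a)
  let πB : B →ₐ[A] A ⧸ I := IsLocalization.Away.liftAlgHom (f := π) (algebraMap A R' a)
    (by rw [AlgHom.commutes, Ideal.Quotient.algebraMap_eq]; exact ha)
  obtain ⟨A', _, _, _, φ, hbij, hφ⟩ := exists_localization I B πB
  let ψ : R' →ₐ[A] A' := φ.comp (IsScalarTower.toAlgHom A R' B)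
  let qA : (A ⧸ I) →ₐ[A] A' ⧸ I.map (algebraMap A A') :=
    { Ideal.quotientMap (I.map (algebraMap A A')) (algebraMap A A') Ideal.le_comap_map with
      commutes' := fun r => rfl }
  have hcomp : (Ideal.Quotient.mkₐ A (I.map (algebraMap A A'))).comp ψ = qA.comp π := by
    refine AlgHom.ext fun r => ?_
    show Ideal.Quotient.mk _ (φ (algebraMap R' B r)) = qA (π r)
    rw [hφ, show πB (algebraMap R' B r) = π r by simp only [πB, IsLocalization.Away.coe_liftAlgHom, IsLocalization.Away.lift_eq]; rfl]
    rfl
  let q := UniversalCoprimeFactorizationRing.homEquiv A' m k hn (MonicDegreeEq.mk f hf rfl) ψ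
  have hpi : UniversalCoprimeFactorizationRing.homEquiv (A ⧸ I) m k hn (MonicDegreeEq.mk f hf rfl) π =
      ⟨(MonicDegreeEq.mk g hg rfl, MonicDegreeEq.mk h hh rfl), hfgh.symm, hcop⟩ := Equiv.apply_symm_apply _ _
  have hu : IsUnit (algebraMap A A' a) := by
    have : algebraMap A A' a = φ (algebraMap R' B (algebraMap A R' a)) := by
      rw [← IsScalarTower.algebraMap_apply A R' B, AlgHom.commutes]
    rw [this]
    exact (IsLocalization.Away.algebraMap_isUnit _).map φ
  refine ⟨A', inferInstance, inferInstance, inferInstance, hu, hbij, q.1.1.1, q.1.2.1, q.1.1.monic, q.1.2.monic, q.2.1.symm, ?_, ?_⟩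
  · have h1 := congrArg Subtype.val (UniversalCoprimeFactorizationRing.homEquiv_comp_fst (hn := hn) (p := MonicDegreeEq.mk f hf rfl) (f := ψ) (g := Ideal.Quotient.mkₐ A (I.map (algebraMap A A'))))
    rw [hcomp, UniversalCoprimeFactorizationRing.homEquiv_comp_fst, hpi] at h1
    exact h1.symm
  · have h1 := congrArg Subtype.val (UniversalCoprimeFactorizationRing.homEquiv_comp_snd (hn := hn) (p := MonicDegreeEq.mk f hf rfl) (f := ψ) (g := Ideal.Quotient.mkₐ A (I.map (algebraMap A A'))))
    rw [hcomp, UniversalCoprimeFactorizationRing.homEquiv_comp_snd, hpi] at h1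
    exact h1.symm

end Groth.Agent.EtLiftLib
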